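import Cfsg.Agent.Lib.Helper12.TC.He2058.Tab
import Cfsg.Agent.Lib.Helper12.TC.HePres

/-! the permutation representation for He2058 (generated, helper12) -/

set_option autoImplicit false
set_option maxRecDepth 100000

namespace Cfsg.Agent.Lib.Helper12.TC.He2058

open Cfsg.Agent.Lib.Helper12.TC Cfsg.Agent.Lib.Helper12.TC.HePres

theorem hperm : permK TT 7 cN = true := by decide +kernel

theorem hrels : relsK TT cN (coxWords Cfsg.Spor.He.edges gen 7 ++ extraWords) = true := by
  decide +kernel

theorem hsub : subK TT 7 sw = true := by decide +kernel

theorem htrans : transK TT 7 cN sw = true := by decide +kernel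

theorem horbi0 : orbInvK TT sw 1 1361 = true := by decide +kernel

theorem horbc0 : orbConnK TT sw 1 1361 = true := by decide +kernel

theorem horbi1 : orbInvK TT sw 1361 1786 = true := by decide +kernel

theorem horbc1 : orbConnK TT sw 1361 1786 = true := by decide +kernel

theorem horbi2 : orbInvK TT sw 1786 1922 = true := by decide +kernel

theorem horbc2 : orbConnK TT sw 1786 1922 = true := by decide +kernel

theorem horbi3 : orbInvK TT sw 1922 2058 = true := by decide +kernel

theorem horbc3 : orbConnK TT sw 1922 2058 = true := by decide +kernel

end Cfsg.Agent.Lib.Helper12.TC.He2058
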